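import Groth.Agent.Chevalley.Normal
import Groth.Agent.QSect.Core
import Groth.Prelude.Def_CAlg2
import Mathlib.RingTheory.Localization.Integral

/-! # Openness at quasi-finite points over unibranch points -/

set_option autoImplicit false

universe u

open scoped TensorProduct
open PrimeSpectrum

namespace Groth.Agent.UBOpen

/-- Over a domain with a normal integral extension having a single point over the image of `q`,
quasi-finite points of domains of finite type are open points. -/
theorem image_basicOpen_mem_nhds_of_unique {R R' : Type u} [CommRing R] [IsDomain R] [CommRing R']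
    [IsDomain R'] [IsIntegrallyClosed R'] [Algebra R R'] [FaithfulSMul R R'] [Algebra.IsIntegral R R']
    {D : Type u} [CommRing D] [IsDomain D] [Algebra R D] [FaithfulSMul R D] [Algebra.FiniteType R D]
    (q : PrimeSpectrum D) [Algebra.QuasiFiniteAt R q.asIdeal]
    (huniq : ∀ z z' : PrimeSpectrum R', comap (algebraMap R R') z = comap (algebraMap R D) q →
      comap (algebraMap R R') z' = comap (algebraMap R D) q → z = z')
    {g : D} (hg : g ∉ q.asIdeal) :
    PrimeSpectrum.comap (algebraMap R D) '' (PrimeSpectrum.basicOpen g : Set (PrimeSpectrum D)) ∈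
      nhds (PrimeSpectrum.comap (algebraMap R D) q) := by
  let Ω := AlgebraicClosure (FractionRing D)
  haveI : Nontrivial R' := inferInstance
  haveI : Algebra.IsAlgebraic R R' := Algebra.IsIntegral.isAlgebraic
  have hDΩ : Function.Injective (algebraMap D Ω) := by
    rw [IsScalarTower.algebraMap_eq D (FractionRing D) Ω]
    exact (algebraMap (FractionRing D) Ω).injective.comp (IsFractionRing.injective D _)
  haveI : FaithfulSMul R Ω := (faithfulSMul_iff_algebraMap_injective R Ω).mpr (by
    rw [IsScalarTower.algebraMap_eq R D Ω]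
    exact hDΩ.comp (FaithfulSMul.algebraMap_injective R D))
  let ψ : R' →ₐ[R] Ω := IsAlgClosed.lift
  let Φ : R' ⊗[R] D →ₐ[R] Ω :=
    Algebra.TensorProduct.lift ψ (IsScalarTower.toAlgHom R D Ω) fun _ _ => .all _ _
  let m' := RingHom.ker Φ.toRingHom
  haveI : m'.IsPrime := RingHom.ker_isPrime _
  let ir : D →+* R' ⊗[R] D := (Algebra.TensorProduct.includeRight : D →ₐ[R] R' ⊗[R] D).toRingHom
  have hm'D : m'.comap ir = ⊥ := by
    refine eq_bot_iff.mpr fun d hd => Ideal.mem_bot.mpr (hDΩ ?_)
    have h0 : Φ (1 ⊗ₜ d) = 0 := hd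
    simpa [Φ] using h0
  have hir : ir.IsIntegral := by
    intro x
    induction x using TensorProduct.induction_on with
    | zero => exact ⟨Polynomial.X, Polynomial.monic_X, by simp⟩
    | tmul a d =>
      letI := ir.toAlgebra
      haveI : IsScalarTower R D (R' ⊗[R] D) := IsScalarTower.of_algebraMap_eq fun z =>
        ((Algebra.TensorProduct.includeRight : D →ₐ[R] R' ⊗[R] D).commutes z).symm
      have h1 : IsIntegral D (a ⊗ₜ[R] (1 : D)) :=
        ((Algebra.IsIntegral.isIntegral (R := R) a).map
          (Algebra.TensorProduct.includeLeft : R' →ₐ[R] R' ⊗[R] D)).tower_top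
      have h2 : IsIntegral D ((1 : R') ⊗ₜ[R] d) := isIntegral_algebraMap (R := D) (A := R' ⊗[R] D) (x := d)
      have := h1.mul h2
      rwa [Algebra.TensorProduct.tmul_mul_tmul, mul_one, one_mul] at this
    | add x y hx hy =>
      letI := ir.toAlgebra
      exact IsIntegral.add (R := D) hx hy
  obtain ⟨q', hq'p, hmq', hq'⟩ : ∃ q' : Ideal (R' ⊗[R] D), q'.IsPrime ∧ m' ≤ q' ∧ q'.comap ir = q.asIdeal := by
    letI := ir.toAlgebra
    haveI : Algebra.IsIntegral D (R' ⊗[R] D) := ⟨hir⟩
    obtain ⟨Q, hle, hQ, hQq⟩ := Ideal.exists_ideal_over_prime_of_isIntegral (S := R' ⊗[R] D) q.asIdeal m'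
      (show m'.comap ir ≤ _ by rw [hm'D]; exact bot_le)
    exact ⟨Q, hQ, hle, hQq⟩
  haveI := hq'p
  haveI : Algebra.QuasiFiniteAt R' q' := Algebra.QuasiFiniteAt.baseChange (p := q.asIdeal) q' hq'.symm
  let D' := (R' ⊗[R] D) ⧸ m'
  let mk : R' ⊗[R] D →ₐ[R'] D' := Ideal.Quotient.mkₐ R' m'
  haveI : (q'.map (Ideal.Quotient.mk m')).IsPrime :=
    Ideal.map_isPrime_of_surjective Ideal.Quotient.mk_surjective (by rwa [Ideal.mk_ker])
  let qbar : PrimeSpectrum D' := ⟨q'.map (Ideal.Quotient.mk m'), inferInstance⟩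
  have hqbar : q' = qbar.asIdeal.comap mk.toRingHom := by
    show q' = (q'.map (Ideal.Quotient.mk m')).comap (Ideal.Quotient.mk m')
    rw [Ideal.comap_map_of_surjective _ Ideal.Quotient.mk_surjective, ← RingHom.ker_eq_comap_bot, Ideal.mk_ker,
      sup_eq_left.mpr hmq']
  haveI : Algebra.QuasiFiniteAt R' qbar.asIdeal := Algebra.QuasiFiniteAt.of_surjectiveOnStalks q' mk
    (RingHom.surjectiveOnStalks_of_surjective Ideal.Quotient.mk_surjective) _ hqbar
  haveI : FaithfulSMul R' D' := (faithfulSMul_iff_algebraMap_injective R' D').mpr <| by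
    refine (injective_iff_map_eq_zero _).mpr fun a ha => ?_
    have h0 : Φ (a ⊗ₜ (1 : D)) = 0 := Ideal.Quotient.eq_zero_iff_mem.mp ha
    have h1 : ψ a = 0 := by simpa [Φ] using h0
    by_contra ha0
    have hne : (Ideal.span {a}).comap (algebraMap R R') ≠ ⊥ :=
      Ideal.comap_ne_bot_of_integral_mem ha0 (Ideal.mem_span_singleton_self a) (Algebra.IsIntegral.isIntegral a)
    obtain ⟨b, hb, hb0⟩ := Submodule.exists_mem_ne_zero_of_ne_bot hne
    obtain ⟨c, hc⟩ := Ideal.mem_span_singleton.mp (Ideal.mem_comap.mp hb)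
    refine hb0 (FaithfulSMul.algebraMap_injective R Ω ?_)
    rw [map_zero, ← ψ.commutes, hc, map_mul, h1, zero_mul]
  haveI : Algebra.FiniteType R' D' := Algebra.FiniteType.of_surjective mk Ideal.Quotient.mk_surjective
  let g' : D' := mk (1 ⊗ₜ g)
  have hg' : g' ∉ qbar.asIdeal := fun h => hg (by
    rw [← hq']
    show (1 : R') ⊗ₜ[R] g ∈ q'
    rw [hqbar]
    exact h)
  have hnhd := Chevalley.image_basicOpen_mem_nhds (R := R') qbar hg'
  let φ := PrimeSpectrum.comap (algebraMap R R')
  have hφc : IsClosedMap φ := PrimeSpectrum.isClosedMap_comap_of_isIntegral _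
    (fun x => Algebra.IsIntegral.isIntegral x)
  have hφs : Function.Surjective φ := fun p => by
    obtain ⟨Q, -, hQ, hQp⟩ := Ideal.exists_ideal_over_prime_of_isIntegral (S := R') p.asIdeal ⊥
      (by rw [← RingHom.ker_eq_comap_bot,
        (RingHom.injective_iff_ker_eq_bot _).mp (FaithfulSMul.algebraMap_injective R R')]; exact bot_le)
    exact ⟨⟨Q, hQ⟩, PrimeSpectrum.ext hQp⟩
  have hcomm : ∀ z : PrimeSpectrum D', PrimeSpectrum.comap (algebraMap R D)
      (PrimeSpectrum.comap ir (PrimeSpectrum.comap mk.toRingHom z)) =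
      φ (PrimeSpectrum.comap (algebraMap R' D') z) := fun z => by
    refine PrimeSpectrum.ext ?_
    show ((z.asIdeal.comap mk.toRingHom).comap ir).comap (algebraMap R D) =
      (z.asIdeal.comap (algebraMap R' D')).comap (algebraMap R R')
    simp only [Ideal.comap_comap]
    congr 1
    ext a
    show mk ((1 : R') ⊗ₜ[R] algebraMap R D a) = algebraMap R' D' (algebraMap R R' a)
    rw [← mk.commutes]
    congr 1
    exact (Algebra.TensorProduct.includeRight : D →ₐ[R] R' ⊗[R] D).commutes a
  have h1 : φ (PrimeSpectrum.comap (algebraMap R' D') qbar) = PrimeSpectrum.comap (algebraMap R D) q := by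
    rw [← hcomm]
    congr 1
    exact PrimeSpectrum.ext (by rw [← hq', hqbar]; rfl)
  obtain ⟨O, hOS, hO, hqO⟩ := mem_nhds_iff.mp hnhd
  refine Filter.mem_of_superset (((hφc _ hO.isClosed_compl).isOpen_compl).mem_nhds ?_) ?_
  · rintro ⟨z, hz, hzp⟩
    exact hz (huniq z _ hzp h1 ▸ hqO)
  · intro y hy
    obtain ⟨z, rfl⟩ := hφs y
    obtain ⟨w, hw, hwz⟩ := hOS (not_not.mp fun hzO => hy ⟨z, hzO, rfl⟩)
    exact ⟨PrimeSpectrum.comap ir (PrimeSpectrum.comap mk.toRingHom w), hw, by rw [hcomm, hwz]⟩

/-- Over a unibranch local domain the integral closure in a fraction field is local. -/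
theorem isLocalRing_integralClosure (A : Type u) [CommRing A] [IsLocalRing A] [IsDomain A]
    (K : Type u) [Field K] [Algebra A K] [IsFractionRing A K] (h : CAlg2.IsUnibranch A) :
    IsLocalRing (integralClosure A K) := by
  let qe : A ≃+* CAlg2.red A :=
    ((Ideal.quotEquivOfEq (nilradical_eq_zero A)).trans (RingEquiv.quotientBot A)).symm
  have hqe : ∀ a, qe a = Ideal.Quotient.mk (nilradical A) a := fun a ↦ by
    apply qe.symm.injective
    rw [RingEquiv.symm_apply_apply]
    simp [qe]
  have hdom : IsDomain (CAlg2.red A) := qe.symm.toMulEquiv.isDomain_iff.mpr inferInstance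
  let : Algebra (CAlg2.red A) K := ((algebraMap A K).comp qe.symm.toRingHom).toAlgebra
  have : IsScalarTower A (CAlg2.red A) K := .of_algebraMap_eq fun a ↦ by
    rw [Ideal.Quotient.algebraMap_eq, ← hqe, RingHom.algebraMap_toAlgebra]
    simp
  have : IsFractionRing (CAlg2.red A) K := by
    have h := IsLocalization.isLocalization_of_base_ringEquiv (nonZeroDivisors A) K qe
    have hM : (nonZeroDivisors A).map (qe : A →+* CAlg2.red A).toMonoidHom =
        nonZeroDivisors (CAlg2.red A) :=
      MulEquivClass.map_nonZeroDivisors qe.toMulEquiv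
    convert h
    exact hM.symm
  let eN := (FractionRing.algEquiv (CAlg2.red A) K).mapIntegralClosure
  have hint : ∀ x : K, IsIntegral (CAlg2.red A) x ↔ IsIntegral A x := fun x ↦
    ⟨fun h ↦ isIntegral_trans x h, fun h ↦ h.tower_top⟩
  let eA : integralClosure (CAlg2.red A) K ≃+* integralClosure A K :=
    { toFun := fun x ↦ ⟨x.1, (hint _).mp x.2⟩
      invFun := fun x ↦ ⟨x.1, (hint _).mpr x.2⟩
      left_inv := fun _ ↦ rfl
      right_inv := fun _ ↦ rfl
      map_mul' := fun _ _ ↦ rfl
      map_add' := fun _ _ ↦ rfl }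
  let e : CAlg2.normRed A ≃+* integralClosure A K := eN.toRingEquiv.trans eA
  haveI := h.2
  exact RingEquiv.isLocalRing e

/-- Over a point with unibranch local ring there is a single prime of the integral closure. -/
theorem eq_of_isUnibranch {A : Type u} [CommRing A] [IsDomain A] (K : Type u) [Field K]
    [Algebra A K] [IsFractionRing A K] (p : Ideal A) [p.IsPrime]
    (hu : CAlg2.IsUnibranch (Localization.AtPrime p)) (z : Ideal (integralClosure A K))
    [hzp : z.IsPrime] (hz : z.comap (algebraMap A (integralClosure A K)) = p)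
    (z' : Ideal (integralClosure A K)) [hzp' : z'.IsPrime]
    (hz' : z'.comap (algebraMap A (integralClosure A K)) = p) : z = z' := by
  let S := Localization.AtPrime p
  have hle : p.primeCompl ≤ nonZeroDivisors A := p.primeCompl_le_nonZeroDivisors
  haveI : IsDomain S := IsLocalization.isDomain_of_le_nonZeroDivisors _ hle
  letI : Algebra S K := IsLocalization.localizationAlgebraOfSubmonoidLe S K _ _ hle
  haveI : IsScalarTower A S K := IsLocalization.localization_isScalarTower_of_submonoid_le S K _ _ hle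
  haveI : IsFractionRing S K := IsFractionRing.isFractionRing_of_isDomain_of_isLocalization p.primeCompl S K
  haveI := isLocalRing_integralClosure S K hu
  let j : integralClosure A K →+* integralClosure S K :=
    (integralClosure A K).val.toRingHom.codRestrict _ fun x => x.2.tower_top
  suffices H : ∀ w : Ideal (integralClosure A K), w.IsPrime →
      w.comap (algebraMap A (integralClosure A K)) = p →
      w = (IsLocalRing.maximalIdeal (integralClosure S K)).comap j by
    rw [H z hzp hz, H z' hzp' hz']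
  clear hz hz' hzp hzp' z z'
  intro z hzp hz
  have hden : ∀ x : integralClosure S K, ∃ (s : A) (y : integralClosure A K),
      s ∉ p ∧ algebraMap A K s * x.1 = y.1 := by
    intro x
    obtain ⟨⟨s, hs⟩, hsx⟩ :=
      IsIntegral.exists_multiple_integral_of_isLocalization p.primeCompl (Rₘ := S) x.1 x.2
    rw [Submonoid.smul_def, Algebra.smul_def] at hsx
    exact ⟨s, ⟨_, hsx⟩, hs, rfl⟩
  have hmem : ∀ s : A, algebraMap A (integralClosure A K) s ∈ z ↔ s ∈ p := fun s => by
    rw [← hz]; rfl
  let Z : Ideal (integralClosure S K) :=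
    { carrier := {x | ∃ (s : A) (y : integralClosure A K), s ∉ p ∧ y ∈ z ∧ algebraMap A K s * x.1 = y.1}
      zero_mem' := ⟨1, 0, fun h => ‹p.IsPrime›.ne_top (p.eq_top_iff_one.mpr h), z.zero_mem, by simp⟩
      add_mem' := by
        rintro a b ⟨s, y, hs, hy, e⟩ ⟨t, w, ht, hw, e'⟩
        refine ⟨s * t, algebraMap A _ t * y + algebraMap A _ s * w,
          ‹p.IsPrime›.mul_notMem hs ht, z.add_mem (z.mul_mem_left _ hy) (z.mul_mem_left _ hw), ?_⟩
        simp only [Subalgebra.coe_add, Subalgebra.coe_mul, Subalgebra.coe_algebraMap, map_mul, ← e, ← e']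
        ring
      smul_mem' := by
        rintro c a ⟨s, y, hs, hy, e⟩
        obtain ⟨t, w, ht, hw⟩ := hden c
        refine ⟨t * s, w * y, ‹p.IsPrime›.mul_notMem ht hs, z.mul_mem_left _ hy, ?_⟩
        simp only [smul_eq_mul, Subalgebra.coe_mul, map_mul, ← e, ← hw]
        ring }
  have hZj : ∀ y, j y ∈ Z ↔ y ∈ z := by
    refine fun y => ⟨?_, fun hy => ⟨1, y, fun h => ‹p.IsPrime›.ne_top (p.eq_top_iff_one.mpr h), hy,
      by rw [map_one, one_mul]; rfl⟩⟩
    rintro ⟨s, w, hs, hw, e⟩
    have : algebraMap A (integralClosure A K) s * y = w := Subtype.ext e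
    rw [← this] at hw
    exact (hzp.mem_or_mem hw).resolve_left fun h => hs ((hmem s).mp h)
  have hZ : Z ≠ ⊤ := fun h => hzp.ne_top (z.eq_top_iff_one.mpr ((hZj 1).mp (by rw [h]; trivial)))
  haveI : Z.IsPrime := by
    refine ⟨hZ, fun {a b} hab => ?_⟩
    obtain ⟨s, y, hs, hy⟩ := hden a
    obtain ⟨t, w, ht, hw⟩ := hden b
    obtain ⟨r, v, hr, hv, e⟩ := hab
    have : algebraMap A (integralClosure A K) r * (y * w) =
        algebraMap A (integralClosure A K) (s * t) * v := Subtype.ext (by
      simp only [Subalgebra.coe_mul, Subalgebra.coe_algebraMap, map_mul, ← hy, ← hw, ← e]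
      ring)
    have h1 : algebraMap A (integralClosure A K) r * (y * w) ∈ z := this ▸ z.mul_mem_left _ hv
    rcases hzp.mem_or_mem ((hzp.mem_or_mem h1).resolve_left fun h => hr ((hmem r).mp h)) with h | h
    · exact Or.inl ⟨s, y, hs, h, hy⟩
    · exact Or.inr ⟨t, w, ht, h, hw⟩
  have hmax : Z.IsMaximal := by
    refine Ideal.isMaximal_of_isIntegral_of_isMaximal_comap (R := S) Z ?_
    convert IsLocalRing.maximalIdeal.isMaximal S using 1
    refine le_antisymm (IsLocalRing.le_maximalIdeal (Ideal.IsPrime.comap _).ne_top) fun c hc => ?_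
    obtain ⟨a, ⟨s, hs⟩, rfl⟩ := IsLocalization.exists_mk'_eq p.primeCompl c
    have ha : a ∈ p := (IsLocalization.AtPrime.mk'_mem_maximal_iff S p a _).mp hc
    refine ⟨s, algebraMap A _ a, hs, (hmem a).mpr ha, ?_⟩
    show algebraMap A K s * algebraMap S K _ = algebraMap A K a
    rw [IsScalarTower.algebraMap_apply A S K, IsScalarTower.algebraMap_apply A S K, ← map_mul]
    exact congrArg _ (IsLocalization.mk'_spec' S a ⟨s, hs⟩)
  ext y
  rw [Ideal.mem_comap, ← IsLocalRing.eq_maximalIdeal hmax, hZj]

/-- Quasi-finite points over unibranch points of domains of finite type are open points. -/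
theorem image_basicOpen_mem_nhds_of_isUnibranch {A D : Type u} [CommRing A] [IsDomain A]
    [CommRing D] [IsDomain D] [Algebra A D] [FaithfulSMul A D] [Algebra.FiniteType A D]
    (q : PrimeSpectrum D) [Algebra.QuasiFiniteAt A q.asIdeal]
    (hu : CAlg2.IsUnibranch (Localization.AtPrime (q.asIdeal.comap (algebraMap A D))))
    {g : D} (hg : g ∉ q.asIdeal) :
    PrimeSpectrum.comap (algebraMap A D) '' (PrimeSpectrum.basicOpen g : Set (PrimeSpectrum D)) ∈
      nhds (PrimeSpectrum.comap (algebraMap A D) q) := by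
  let K := FractionRing A
  let R' := integralClosure A K
  haveI : IsIntegrallyClosed R' := integralClosure.isIntegrallyClosedOfFiniteExtension K (L := K)
  haveI : Algebra.IsIntegral A R' := integralClosure.AlgebraIsIntegral
  haveI : FaithfulSMul A R' := (faithfulSMul_iff_algebraMap_injective A R').mpr fun a b h =>
    IsFractionRing.injective A K (congrArg Subtype.val h)
  refine image_basicOpen_mem_nhds_of_unique (R' := R') q (fun z z' hz hz' => ?_) hg
  exact PrimeSpectrum.ext (eq_of_isUnibranch K _ hu z.asIdeal (congrArg PrimeSpectrum.asIdeal hz)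
    z'.asIdeal (congrArg PrimeSpectrum.asIdeal hz'))

end Groth.Agent.UBOpen
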